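import Groth.Agent.An.H896.Chart
import Groth.Agent.An.H871.Imm
import Groth.Agent.Sga4h.GenULAFlc
import Groth.Prelude.Def_AnEps

/-!
# Étale charts of étale schemes over a smooth curve over `ℂ`
-/

set_option autoImplicit false

open CategoryTheory AlgebraicGeometry Topology TopologicalSpace Polynomial

noncomputable section

namespace Groth.Agent.An.H896.ChartEt

open Chart

theorem good_congr {V : Scheme.{0}} (i₁ i₂ : V.Over An.SC)
    (h : @CategoryTheory.over _ _ V An.SC i₁ = @CategoryTheory.over _ _ V An.SC i₂)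
    (hg : @Good V i₁) : @Good V i₂ := by
  have h' : i₁ = i₂ := by
    cases i₁
    cases i₂
    congr
  subst h'
  exact hg

variable (X : Scheme.{0}) [X.Over An.SC] [Smooth (X ↘ An.SC)]

theorem smooth_left (U : X.Etale) : Smooth (U.left ↘ An.SC) := by
  have : Etale U.hom := U.prop
  exact inferInstanceAs (Smooth (U.hom ≫ X ↘ An.SC))

theorem dim_left_le (X : Scheme.{0}) (U : X.Etale) :
    topologicalKrullDim U.left ≤ topologicalKrullDim X := by
  have : Etale U.hom := U.prop
  exact Groth.Agent.Desc.DimMap.topologicalKrullDim_le_of_fibres U.hom U.hom.continuous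
    (fun x y h1 h2 => Groth.Agent.Sga4h.GenULAFlc.eq_of_specializes_of_etale U.hom h1 h2)

theorem exists_chart_etale (hdim : topologicalKrullDim X ≤ 1) (U : X.Etale)
    (a : An.Pts U.left) :
    ∃ (V : X.Etale) (g : V ⟶ U) (b : An.Pts V.left),
      An.Pts.map (X := V.left) (Y := U.left) g.left b = a ∧ Good V.left := by
  have h1 := smooth_left X U
  have h2 : Etale U.hom := U.prop
  have h0 : LocallyOfFiniteType (U.left ↘ An.SC) := inferInstance
  obtain ⟨V₀, iV, j, hj, hjo, hr, hgood⟩ := exists_chart (Y := U.left)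
    ((dim_left_le X U).trans hdim) a.pt (Groth.Agent.An.H871.Basic.isClosed_pt a)
  let V : X.Etale := Scheme.Etale.mk (j ≫ U.hom)
  let g : V ⟶ U := MorphismProperty.Over.homMk j rfl trivial
  have hgo : IsOpenImmersion g.left := hjo
  have h3 := Groth.Agent.An.H871.Imm.range_map_of_isOpenImmersion (X := V.left) (Y := U.left) g.left
  have h4 : a ∈ Set.range (An.Pts.map (X := V.left) (Y := U.left) g.left) := by
    rw [h3]
    exact hr
  obtain ⟨b, hb⟩ := h4
  refine ⟨V, g, b, hb, good_congr iV _ ?_ hgood⟩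
  have h5 : j ≫ (U.left ↘ An.SC) = V₀ ↘ An.SC := comp_over j An.SC
  rw [← h5]
  exact (Category.assoc _ _ _).symm

end Groth.Agent.An.H896.ChartEt
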