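import Groth.Agent.An.H896.CovVan
import Groth.Agent.An.H537.ClBox
import Groth.Agent.An.H885.ClConst

/-!
# `H^q(A, G) = 0`, `q ≥ 2`, for finite coverings `A.E → ℂ ∖ S` and locally constant `G`
-/

set_option autoImplicit false

open CategoryTheory TopologicalSpace An
open Groth.Agent.An.H579.RetCov

noncomputable section

namespace Groth.Agent.An.H896.CovVanCl

open Groth.Agent.An.H537.ClOpens Groth.Agent.An.H537.ClBox Groth.Agent.An.H888.ClsH

variable {T : Type} [TopologicalSpace T]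

/-- `A.E → ℂ ∖ S` a finite covering, `G` locally constant: `H^q(A, G) = 0` for `q ≥ 2`. -/
theorem HA_eq_zero_of_finCov (A : Cl T) {S : Set ℂ} (hS : S.Finite) {p : A.E → ℂ}
    (h : FinCov S p) {G : Cl.Ab T} (hG : LCOn G A) (q : ℕ) (hq : 2 ≤ q) (x : HA A G q) : x = 0 := by
  have h1 : CovVan.Vz (ZA A) G q ⊤ :=
    CovVan.vz_top (Z := ZA A) (F := G) (isCosheaf A) h hS
      (fun W ⟨e⟩ q x => HA_eq_zero (A := (opensF A).obj W) e (hG.pullback (incl A W)) q x) q hq
  have h2 := h1 (topEquiv A G q x)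
  exact (map_eq_zero_iff _ (topEquiv A G q).injective).1 h2

/-- Constant sheaves are locally constant. -/
theorem isLC_const (T : Type) [TopologicalSpace T] (M : Type) [AddCommGroup M] :
    Groth.Agent.An.H886.LocConst.IsLC (Cl.const T M) := by
  intro t
  have h := Groth.Agent.An.H885.ClConst.isConstVia_constSec (T := T) M (Cl.self T)
  exact ⟨Cl.self T, t, M, inferInstance, Groth.Agent.An.H885.ClConst.constSec M (Cl.self T), rfl,
    ⟨fun {B} g b {m} hm => h.inj B g b m hm, fun {B} g b s => h.surj B g b s⟩⟩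

theorem lcOn_const (M : Type) [AddCommGroup M] (A : Cl T) : LCOn (Cl.const T M) A :=
  lcOn_of_isLC (isLC_const T M) A

/-- `A.E → ℂ ∖ S` a finite covering: `H^q(A, M) = 0` for `q ≥ 2`. -/
theorem HA_const_eq_zero_of_finCov (A : Cl T) {S : Set ℂ} (hS : S.Finite) {p : A.E → ℂ}
    (h : FinCov S p) (M : Type) [AddCommGroup M] (q : ℕ) (hq : 2 ≤ q)
    (x : HA A (Cl.const T M) q) : x = 0 :=
  HA_eq_zero_of_finCov A hS h (lcOn_const M A) q hq x

end Groth.Agent.An.H896.CovVanCl
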