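import Groth.Agent.An.H896.ChartAlg
import Groth.Agent.CurvesB.SmoothCurveFacts
import Groth.Agent.Ega4late.H542.GlueSup
import Groth.Agent.Lefpen.H705.ClosedPoint
import Groth.Agent.Desc.DimMap
import Groth.Agent.CalgC.RegLocal
import Groth.Prelude.Def_AnPts
import Mathlib.AlgebraicGeometry.Morphisms.Etale
import Mathlib.Analysis.Complex.Polynomial.Basic

/-!
# Étale charts of smooth curves over `ℂ`
-/

set_option autoImplicit false

open CategoryTheory AlgebraicGeometry Topology TopologicalSpace Polynomial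

noncomputable section

namespace Groth.Agent.An.H896.Chart

open Groth.Agent.CurvesB.SmoothCurveFacts Groth.Agent.CurvesB.OmegaStalkDict

/-- The output of `exists_chart` for a scheme `V`. -/
def Good (V : Scheme.{0}) [V.Over An.SC] : Prop :=
  IsIso (V ↘ An.SC) ∨ ∃ D : ℂ[X], D ≠ 0 ∧
    ∃ π : V ⟶ Spec (CommRingCat.of (Localization.Away D)), IsFinite π ∧ Etale π ∧
      π ≫ Spec.map (CommRingCat.ofHom ((algebraMap ℂ[X] (Localization.Away D)).comp C)) =
        V ↘ An.SC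

theorem isoSpec_inv_comp {A : Type} [CommRing A] {Y : Scheme.{0}} [IsAffine Y]
    (f : Y ⟶ Spec (CommRingCat.of A)) :
    Y.isoSpec.inv ≫ f = Spec.map (CommRingCat.ofHom (secHom f ⊤)) := by
  have h1 : CommRingCat.ofHom (secHom f ⊤) =
      (Scheme.ΓSpecIso (CommRingCat.of A)).inv ≫ f.appTop := by
    have h2 : CommRingCat.ofHom (secHom f ⊤) =
      ((Scheme.ΓSpecIso (CommRingCat.of A)).inv ≫ f.appTop) ≫
        Y.presheaf.map (homOfLE (le_top : (⊤ : Y.Opens) ≤ ⊤)).op := rfl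
    have h3 : (homOfLE (le_top : (⊤ : Y.Opens) ≤ ⊤)).op = 𝟙 _ := rfl
    rw [h2, h3, CategoryTheory.Functor.map_id, Category.comp_id]
  rw [h1, Spec.map_comp]
  have h4 : Y.toSpecΓ ≫ Spec.map f.appTop ≫ Spec.map (Scheme.ΓSpecIso (CommRingCat.of A)).inv =
      f := by
    rw [← Scheme.toSpecΓ_naturality_assoc]
    simp
  conv_lhs => rw [← h4]
  rw [Scheme.isoSpec_inv_toSpecΓ_assoc]

theorem exists_chart_integral {Y : Scheme.{0}} [Y.Over An.SC] [Smooth (Y ↘ An.SC)] [IsIntegral Y]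
    [IsAffine Y] (hdim : topologicalKrullDim Y ≤ 1) (y : Y) (hy : IsClosed ({y} : Set Y)) :
    ∃ (V : Scheme.{0}) (_ : V.Over An.SC) (j : V ⟶ Y) (_ : j.IsOver An.SC) (_ : IsOpenImmersion j),
      y ∈ Set.range j ∧ Good V := by
  let f : Y ⟶ Spec (CommRingCat.of ℂ) := Y ↘ An.SC
  have hf : Smooth f := inferInstanceAs (Smooth (Y ↘ An.SC))
  let _ : Algebra ℂ Γ(Y, ⊤) := secAlg f ⊤
  have hU := isAffineOpen_top Y
  have : Nonempty (⊤ : Y.Opens) := ⟨⟨y, trivial⟩⟩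
  have : Algebra.FiniteType ℂ Γ(Y, ⊤) := finiteType_secHom f hU
  have : Algebra.Smooth ℂ Γ(Y, ⊤) := smooth_secHom f hU
  have : IsDedekindDomain Γ(Y, ⊤) := isDedekindDomain_sec f hdim hU
  have hm : (hU.primeIdealOf ⟨y, trivial⟩).asIdeal.IsMaximal :=
    hU.primeIdealOf_isMaximal_of_isClosed ⟨y, trivial⟩ hy
  -- the structure morphism of `Y` through `Spec Γ(Y, ⊤)`
  have hstr : Y.isoSpec.inv ≫ f = Spec.map (CommRingCat.ofHom (algebraMap ℂ Γ(Y, ⊤))) :=
    isoSpec_inv_comp f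
  rcases ChartAlg.exists_chart (k := ℂ) (hU.primeIdealOf ⟨y, trivial⟩).asIdeal with hb | hD
  · refine ⟨Y, inferInstance, 𝟙 Y, inferInstance, inferInstance, ⟨y, rfl⟩, Or.inl ?_⟩
    have h1 : IsIso (Spec.map (CommRingCat.ofHom (algebraMap ℂ Γ(Y, ⊤)))) := by
      have : IsIso (CommRingCat.ofHom (algebraMap ℂ Γ(Y, ⊤))) :=
        (ConcreteCategory.isIso_iff_bijective _).2 hb
      infer_instance
    rw [← hstr] at h1
    exact IsIso.of_isIso_comp_left Y.isoSpec.inv f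
  · obtain ⟨D, h, hD, hh, φ, hφ1, hφ2⟩ := hD
    let B := Localization.Away h
    let V : Scheme.{0} := Spec (CommRingCat.of B)
    let j₀ : V ⟶ Spec Γ(Y, ⊤) := Spec.map (CommRingCat.ofHom (algebraMap Γ(Y, ⊤) B))
    let j : V ⟶ Y := j₀ ≫ Y.isoSpec.inv
    let _ : V.Over An.SC := ⟨j ≫ Y ↘ An.SC⟩
    have hj₀ : IsOpenImmersion j₀ := IsOpenImmersion.of_isLocalization h
    have hj : IsOpenImmersion j := inferInstanceAs (IsOpenImmersion (j₀ ≫ Y.isoSpec.inv))
    have hV : j ≫ Y ↘ An.SC = Spec.map (CommRingCat.ofHom (algebraMap ℂ B)) := by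
      change (j₀ ≫ Y.isoSpec.inv) ≫ f = _
      rw [Category.assoc, hstr, ← Spec.map_comp]
      rfl
    refine ⟨V, inferInstance, j, ⟨rfl⟩, hj, ?_, Or.inr ⟨D, hD,
      Spec.map (CommRingCat.ofHom φ.toRingHom), ?_, ?_, ?_⟩⟩
    · have h1 : hU.primeIdealOf ⟨y, trivial⟩ ∈ Set.range (PrimeSpectrum.comap
          (algebraMap Γ(Y, ⊤) B)) := by
        rw [PrimeSpectrum.localization_away_comap_range B h]
        exact hh
      obtain ⟨v, hv⟩ := h1
      refine ⟨v, ?_⟩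
      change Y.isoSpec.inv (j₀ v) = y
      have h2 : j₀ v = hU.primeIdealOf ⟨y, trivial⟩ := hv
      rw [h2]
      have h3 := hU.fromSpec_primeIdealOf ⟨y, trivial⟩
      rwa [IsAffineOpen.fromSpec_top] at h3
    · exact (IsFinite.SpecMap_iff _).2 hφ1
    · exact (HasRingHomProperty.Spec_iff (P := @Etale)).2 hφ2
    · rw [← Spec.map_comp]
      refine Eq.trans ?_ hV.symm
      congr 1
      ext c
      change φ (algebraMap ℂ[X] (Localization.Away D) (C c)) = algebraMap ℂ B c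
      exact φ.commutes c

theorem exists_chart {Y : Scheme.{0}} [Y.Over An.SC] [Smooth (Y ↘ An.SC)]
    (hdim : topologicalKrullDim Y ≤ 1) (y : Y) (hy : IsClosed ({y} : Set Y)) :
    ∃ (V : Scheme.{0}) (_ : V.Over An.SC) (j : V ⟶ Y) (_ : j.IsOver An.SC) (_ : IsOpenImmersion j),
      y ∈ Set.range j ∧ Good V := by
  have h1 : IsRegularLocalRing (Y.presheaf.stalk y) :=
    Groth.Agent.Lefpen.H705.ClosedPoint.isRegularLocalRing_stalk (Y ↘ An.SC) y
  have h2 : IsDomain (Y.presheaf.stalk y) := Groth.Agent.CalgC.RegLocal.isDomain _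
  have h3 : IsLocallyNoetherian Y := LocallyOfFiniteType.isLocallyNoetherian (Y ↘ An.SC)
  obtain ⟨W, hyW, hWaff, hWint⟩ := Groth.Agent.Ega4late.H542.GlueSup.exists_isIntegral_nhd y
  let i : W.toScheme ⟶ Y := W.ι
  let _ : W.toScheme.Over An.SC := ⟨i ≫ Y ↘ An.SC⟩
  have hi : i.IsOver An.SC := ⟨rfl⟩
  have : Smooth (W.toScheme ↘ An.SC) := inferInstanceAs (Smooth (W.ι ≫ Y ↘ An.SC))
  have : IsAffine W.toScheme := hWaff
  obtain ⟨V, iV, j, hj, hjo, ⟨v, hv⟩, hgood⟩ := exists_chart_integral (Y := W.toScheme)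
    (W.ι.isOpenEmbedding.isInducing.topologicalKrullDim_le.trans hdim) ⟨y, hyW⟩ (by
      have : ({⟨y, hyW⟩} : Set W.toScheme) = W.ι ⁻¹' {y} := by
        ext w
        exact Subtype.ext_iff
      rw [this]
      exact hy.preimage W.ι.continuous)
  refine ⟨V, iV, j ≫ i, inferInstance, inferInstance, ⟨v, ?_⟩, hgood⟩
  rw [Scheme.Hom.comp_apply, hv]
  rfl

end Groth.Agent.An.H896.Chart
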