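import Groth.Agent.An.H896.GenProj3
import Mathlib.RingTheory.KrullDimension.LocalRing
import Mathlib.RingTheory.RingHom.Etale
import Mathlib.RingTheory.RingHom.Finite
import Mathlib.RingTheory.Jacobson.Ring
import Mathlib.FieldTheory.IsAlgClosed.Basic

/-!
# Étale charts of a smooth affine curve, algebraic form

A smooth Dedekind algebra `A` over an algebraically closed field of characteristic zero is the base
field, or some localization `A_h`, `h ∉ m`, is finite étale over some `k[T]_D`, `D ≠ 0`.
-/

set_option autoImplicit false
universe u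

open Polynomial

noncomputable section

namespace Groth.Agent.An.H896.ChartAlg

section General

variable {k A : Type u} [Field k] [CommRing A] [Algebra k A]

/-- The residue field of a finite type algebra at a maximal ideal is `k`. -/
theorem exists_sub_mem [IsAlgClosed k] [Algebra.FiniteType k A] (m : Ideal A) [hm : m.IsMaximal]
    (a : A) : ∃ c : k, a - algebraMap k A c ∈ m := by
  let _ := Ideal.Quotient.field m
  have : Module.Finite k (A ⧸ m) := finite_of_finite_type_of_isJacobsonRing k (A ⧸ m)
  obtain ⟨c, hc⟩ := (IsAlgClosed.algebraMap_bijective_of_isIntegral (k := k) (K := A ⧸ m)).2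
    (Ideal.Quotient.mk m a)
  refine ⟨c, ?_⟩
  rw [← Ideal.Quotient.eq_zero_iff_mem, map_sub, ← hc, sub_eq_zero]
  rfl

theorem bijective_of_bot [IsAlgClosed k] [Algebra.FiniteType k A] [Nontrivial A]
    (hm : (⊥ : Ideal A).IsMaximal) : Function.Bijective (algebraMap k A) := by
  refine ⟨(algebraMap k A).injective, fun a => ?_⟩
  obtain ⟨c, hc⟩ := exists_sub_mem (k := k) (⊥ : Ideal A) a
  exact ⟨c, (sub_eq_zero.1 ((Submodule.mem_bot A).1 hc)).symm⟩

theorem ringKrullDim_eq_one [IsDedekindDomain A] (m : Ideal A) [hm : m.IsMaximal] (h0 : m ≠ ⊥) :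
    ringKrullDim A = 1 := by
  apply le_antisymm
  · exact Ring.krullDimLE_iff.mp inferInstance
  · have h1 : (⟨⊥, Ideal.isPrime_bot⟩ : PrimeSpectrum A) < ⟨m, hm.isPrime⟩ := by
      change (⊥ : Ideal A) < m
      exact bot_lt_iff_ne_bot.2 h0
    let l : LTSeries (PrimeSpectrum A) :=
      (RelSeries.singleton _ (⟨⊥, Ideal.isPrime_bot⟩ : PrimeSpectrum A)).snoc ⟨m, hm.isPrime⟩ h1
    exact (Order.LTSeries.length_le_krullDim l : _)

end General

section Loc

variable {k A : Type u} [Field k] [CommRing A] [Algebra k A]

/-- The map `k[T]_D → A_{D(g)}`. -/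
def awayHom (g : A) (D : k[X]) : Localization.Away D →ₐ[k] Localization.Away (aeval g D : A) :=
  { IsLocalization.Away.map (Localization.Away D) (Localization.Away (aeval g D : A))
      (aeval g : k[X] →ₐ[k] A).toRingHom D with
    commutes' := fun c => by
      change IsLocalization.Away.map _ _ _ _ (algebraMap k _ c) = _
      rw [IsScalarTower.algebraMap_apply k k[X] (Localization.Away D)]
      erw [IsLocalization.map_eq]
      rw [IsScalarTower.algebraMap_apply k A (Localization.Away (aeval g D : A))]
      congr 1
      exact (aeval g : k[X] →ₐ[k] A).commutes c }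

theorem awayHom_algebraMap (g : A) (D : k[X]) (P : k[X]) :
    awayHom g D (algebraMap k[X] (Localization.Away D) P) =
      algebraMap A (Localization.Away (aeval g D : A)) (aeval g P) := by
  change IsLocalization.Away.map _ _ _ _ _ = _
  erw [IsLocalization.map_eq]
  rfl

theorem awayHom_finite_etale (g : A) (D : k[X])
    (hfin : ((aeval g : k[X] →ₐ[k] A).toRingHom).Finite)
    (het : letI : Algebra k[X] A := (aeval g : k[X] →ₐ[k] A).toRingHom.toAlgebra
      Algebra.Etale k[X] (Localization.Away (aeval g D : A))) :
    (awayHom g D).toRingHom.Finite ∧ (awayHom g D).toRingHom.Etale := by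
  let _ : Algebra k[X] A := (aeval g : k[X] →ₐ[k] A).toRingHom.toAlgebra
  let _ : Algebra (Localization.Away D) (Localization.Away (aeval g D : A)) :=
    (awayHom g D).toRingHom.toAlgebra
  have hT : IsScalarTower k[X] (Localization.Away D) (Localization.Away (aeval g D : A)) :=
    IsScalarTower.of_algebraMap_eq fun P => (awayHom_algebraMap g D P).symm
  have hfin' : Module.Finite k[X] A := hfin
  have het' : Algebra.Etale k[X] (Localization.Away (aeval g D : A)) := het
  have hL : IsLocalization (Algebra.algebraMapSubmonoid A (Submonoid.powers D))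
      (Localization.Away (aeval g D : A)) := by
    have : Algebra.algebraMapSubmonoid A (Submonoid.powers D) =
        Submonoid.powers (aeval g D : A) := by
      rw [Algebra.algebraMapSubmonoid, Submonoid.map_powers]
      rfl
    rw [this]
    infer_instance
  constructor
  · change Module.Finite (Localization.Away D) (Localization.Away (aeval g D : A))
    exact Module.Finite.of_isLocalization k[X] A (Submonoid.powers D)
  · change Algebra.Etale (Localization.Away D) (Localization.Away (aeval g D : A))
    exact Algebra.Etale.of_restrictScalars k[X] _ _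

end Loc

section Main

variable {k A : Type u} [Field k] [IsAlgClosed k] [CharZero k] [CommRing A] [Algebra k A]

theorem exists_chart [Algebra.FiniteType k A] [IsDedekindDomain A] [Algebra.Smooth k A]
    (m : Ideal A) [hm : m.IsMaximal] :
    Function.Bijective (algebraMap k A) ∨
      ∃ (D : k[X]) (h : A), D ≠ 0 ∧ h ∉ m ∧
        ∃ φ : Localization.Away D →ₐ[k] Localization.Away h,
          φ.toRingHom.Finite ∧ φ.toRingHom.Etale := by
  by_cases h0 : m = ⊥
  · subst h0
    exact Or.inl (bijective_of_bot hm)
  · right
    obtain ⟨g, hg, hfin, -, D, hD, het⟩ :=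
      GenProj.exists_finite_etale (k := k) (ringKrullDim_eq_one m h0) m
    refine ⟨D, aeval g D, ?_, ?_, awayHom g D, awayHom_finite_etale g D hfin het⟩
    · rintro rfl
      exact hD (by simp)
    · intro hmem
      apply hm.ne_top
      rw [Ideal.eq_top_iff_one]
      have h1 : (aeval g D : A) - algebraMap k A (D.eval 0) ∈ m := by
        have h2 : (X : k[X]) ∣ D - C (D.eval 0) := by
          rw [X_dvd_iff]
          simp [coeff_zero_eq_eval_zero]
        obtain ⟨Q, hQ⟩ := h2
        have h3 := congrArg (aeval g : k[X] →ₐ[k] A) hQ
        rw [map_sub, map_mul, aeval_X, aeval_C] at h3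
        rw [h3]
        exact m.mul_mem_right _ hg
      have h2 : algebraMap k A (D.eval 0) ∈ m := by
        have := m.sub_mem hmem h1
        rwa [sub_sub_cancel] at this
      have h3 := m.mul_mem_left (algebraMap k A (D.eval 0)⁻¹) h2
      rwa [← map_mul, inv_mul_cancel₀ hD, map_one] at h3

end Main

end Groth.Agent.An.H896.ChartAlg
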