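import Groth.Agent.An.H896.Punct
import Groth.Agent.An.H537.Cosheaf
import Groth.Agent.An.H579.RetCov
import Mathlib.Analysis.Convex.Contractible
import Mathlib.Analysis.Complex.ReImTopology
import Mathlib.Order.Interval.Set.IsoIoo
import Mathlib.Analysis.SpecialFunctions.Exp
import Mathlib.Topology.Order.MonotoneContinuity

/-!
# Vanishing of cohomology in degrees `≥ 2` for finite coverings of punctured planes

`Y → ℂ ∖ S` a finite covering, cohomology of opens of `Y` given by a cosheaf `Z : Opens Y ⥤ A` (in the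
sense of `H537.Cosheaf`), vanishing in positive degrees on opens homeomorphic to `ℝ²`: then
`H^q(Y, F) = 0` for `q ≥ 2`.
-/

set_option autoImplicit false
universe w v u

open CategoryTheory CategoryTheory.Limits CategoryTheory.Abelian TopologicalSpace Set
open Groth.Agent.An.H579.RetCov

noncomputable section

namespace Groth.Agent.An.H896.CovVan

/-! ### Rectangles -/

/-- Open rectangles in `ℂ`, possibly unbounded or empty. -/
def Rect (D : Set ℂ) : Prop :=
  ∃ I J : Set ℝ, IsOpen I ∧ I.OrdConnected ∧ IsOpen J ∧ J.OrdConnected ∧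
    D = {z | z.re ∈ I ∧ z.im ∈ J}

theorem Rect.isOpen {D : Set ℂ} (h : Rect D) : IsOpen D := by
  obtain ⟨I, J, hI, -, hJ, -, rfl⟩ := h
  exact (hI.preimage Complex.continuous_re).inter (hJ.preimage Complex.continuous_im)

theorem Rect.convex {D : Set ℂ} (h : Rect D) : Convex ℝ D := by
  obtain ⟨I, J, -, hI, -, hJ, rfl⟩ := h
  have h1 : Convex ℝ (Complex.reLm ⁻¹' I) := hI.convex.linear_preimage Complex.reLm
  have h2 : Convex ℝ (Complex.imLm ⁻¹' J) := hJ.convex.linear_preimage Complex.imLm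
  exact h1.inter h2

theorem cls_rect : Punct.Cls Rect where
  isOpen D h := h.isOpen
  reLt := by
    rintro _ c ⟨I, J, hI, hI', hJ, hJ', rfl⟩
    refine ⟨I ∩ Iio c, J, hI.inter isOpen_Iio, hI'.inter ordConnected_Iio, hJ, hJ', ?_⟩
    ext z
    simp only [mem_inter_iff, mem_ofPred_eq, mem_Iio]
    tauto
  reGt := by
    rintro _ c ⟨I, J, hI, hI', hJ, hJ', rfl⟩
    refine ⟨I ∩ Ioi c, J, hI.inter isOpen_Ioi, hI'.inter ordConnected_Ioi, hJ, hJ', ?_⟩
    ext z
    simp only [mem_inter_iff, mem_ofPred_eq, mem_Ioi]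
    tauto
  imLt := by
    rintro _ c ⟨I, J, hI, hI', hJ, hJ', rfl⟩
    refine ⟨I, J ∩ Iio c, hI, hI', hJ.inter isOpen_Iio, hJ'.inter ordConnected_Iio, ?_⟩
    ext z
    simp only [mem_inter_iff, mem_ofPred_eq, mem_Iio]
    tauto
  imGt := by
    rintro _ c ⟨I, J, hI, hI', hJ, hJ', rfl⟩
    refine ⟨I, J ∩ Ioi c, hI, hI', hJ.inter isOpen_Ioi, hJ'.inter ordConnected_Ioi, ?_⟩
    ext z
    simp only [mem_inter_iff, mem_ofPred_eq, mem_Ioi]
    tauto

theorem homeo_Ioo {a b : ℝ} (hab : a < b) : Nonempty (Ioo a b ≃ₜ ℝ) := by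
  have hba : 0 < b - a := sub_pos.2 hab
  have h2 : (2 / (b - a)) ≠ 0 := by positivity
  let e₁ : Ioo a b ≃ₜ Ioo (-1 : ℝ) 1 :=
    (affineHomeomorph (2 / (b - a)) (-(a + b) / (b - a)) h2).subtype (fun x => by
      simp only [affineHomeomorph_apply, mem_Ioo]
      have h3 : 2 / (b - a) * x + -(a + b) / (b - a) = (2 * x - (a + b)) / (b - a) := by
        field_simp
        ring
      rw [h3, lt_div_iff₀ hba, div_lt_iff₀ hba]
      constructor <;> rintro ⟨h4, h5⟩ <;> constructor <;> linarith)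
  exact ⟨e₁.trans (orderIsoIooNegOneOne ℝ).symm.toHomeomorph⟩

theorem homeo_Ioi (a : ℝ) : Nonempty (Ioi a ≃ₜ ℝ) := by
  let e₁ : Ioi a ≃ₜ Ioi (0 : ℝ) := (Homeomorph.addRight (-a)).subtype (fun x => by
    simp only [Homeomorph.coe_addRight, mem_Ioi]
    constructor <;> intro h <;> linarith)
  exact ⟨e₁.trans Real.expOrderIso.symm.toHomeomorph⟩

theorem homeo_Iio (a : ℝ) : Nonempty (Iio a ≃ₜ ℝ) := by
  obtain ⟨e⟩ := homeo_Ioi (-a)
  let e₁ : Iio a ≃ₜ Ioi (-a) := (Homeomorph.neg ℝ).subtype (fun x => by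
    simp only [Homeomorph.coe_neg, mem_Ioi, mem_Iio]
    constructor <;> intro h <;> linarith)
  exact ⟨e₁.trans e⟩

theorem homeo_interval {I : Set ℝ} (hI : IsOpen I) (hI' : I.OrdConnected) (hne : I.Nonempty) :
    Nonempty (I ≃ₜ ℝ) := by
  have h1 := hI'.isPreconnected.mem_intervals
  have hi := hI.interior_eq
  simp only [mem_insert_iff, mem_singleton_iff] at h1
  have hoo : ∀ a b : ℝ, I = Ioo a b → Nonempty (I ≃ₜ ℝ) := by
    rintro a b rfl
    exact homeo_Ioo (nonempty_Ioo.1 hne)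
  have hoi : ∀ a : ℝ, I = Ioi a → Nonempty (I ≃ₜ ℝ) := by
    rintro a rfl
    exact homeo_Ioi a
  have hio : ∀ a : ℝ, I = Iio a → Nonempty (I ≃ₜ ℝ) := by
    rintro a rfl
    exact homeo_Iio a
  rcases h1 with h | h | h | h | h | h | h | h | h | h
  · exact hoo _ _ (by conv_lhs => rw [← hi, h, interior_Icc])
  · exact hoo _ _ (by conv_lhs => rw [← hi, h, interior_Ico])
  · exact hoo _ _ (by conv_lhs => rw [← hi, h, interior_Ioc])
  · exact hoo _ _ h
  · exact hoi _ (by conv_lhs => rw [← hi, h, interior_Ici])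
  · exact hoi _ h
  · exact hio _ (by conv_lhs => rw [← hi, h, interior_Iic])
  · exact hio _ h
  · subst h
    exact ⟨Homeomorph.Set.univ ℝ⟩
  · subst h
    exact absurd hne (by simp)

theorem Rect.homeo {D : Set ℂ} (h : Rect D) (hne : D.Nonempty) : Nonempty (D ≃ₜ (Fin 2 → ℝ)) := by
  obtain ⟨I, J, hI, hI', hJ, hJ', rfl⟩ := h
  obtain ⟨z, hz1, hz2⟩ := hne
  obtain ⟨e₁⟩ := homeo_interval hI hI' ⟨_, hz1⟩
  obtain ⟨e₂⟩ := homeo_interval hJ hJ' ⟨_, hz2⟩
  let e : {z : ℂ | z.re ∈ I ∧ z.im ∈ J} ≃ₜ I × J :=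
    { toFun := fun z => (⟨z.1.re, z.2.1⟩, ⟨z.1.im, z.2.2⟩)
      invFun := fun w => ⟨⟨w.1.1, w.2.1⟩, w.1.2, w.2.2⟩
      left_inv := fun z => rfl
      right_inv := fun w => rfl
      continuous_toFun := by
        refine Continuous.prodMk ?_ ?_
        · exact (Complex.continuous_re.comp continuous_subtype_val).subtype_mk _
        · exact (Complex.continuous_im.comp continuous_subtype_val).subtype_mk _
      continuous_invFun := by
        refine Continuous.subtype_mk ?_ _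
        have h1 : Continuous fun w : I × J => ((w.1.1 : ℝ), (w.2.1 : ℝ)) := by fun_prop
        exact Complex.equivRealProdCLM.symm.continuous.comp h1 }
  exact ⟨e.trans ((e₁.prodCongr e₂).trans Homeomorph.finTwoArrow.symm)⟩

/-! ### Vanishing -/

section Van

open Groth.Agent.An.H537.Cosheaf Groth.Agent.An.H537.Gen

variable {Y : Type} [TopologicalSpace Y] {A : Type u} [Category.{v} A] [Abelian A]
  {Z : Opens Y ⥤ A} (hZ : IsCosheaf Z) [HasExt.{w} A] (F : A)

variable (Z) in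
/-- All classes of degree `q` over `W` vanish. -/
def Vz (q : ℕ) (W : Opens Y) : Prop := ∀ x : H Z F q W, x = 0

variable {F}

include hZ in
theorem vz_bot (q : ℕ) : Vz Z F q ⊥ := by
  have h0 : (𝟙 (Z.obj ⊥) : Z.obj ⊥ ⟶ Z.obj ⊥) = 0 :=
    hZ.hom_ext (I := Empty) (fun i => i.elim) ⊥ (fun i => i.elim) bot_le _ _ (fun i => i.elim)
  intro x
  have h1 : (Ext.mk₀ (𝟙 (Z.obj ⊥))).comp x (zero_add q) = x := Ext.mk₀_id_comp x
  rw [← h1, h0, Ext.mk₀_zero, Ext.zero_comp]

include hZ in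
theorem vz_sup {q : ℕ} {W₁ W₂ : Opens Y} (h₁ : Vz Z F (q + 1) W₁) (h₂ : Vz Z F (q + 1) W₂)
    (h₁₂ : Vz Z F q (W₁ ⊓ W₂)) : Vz Z F (q + 1) (W₁ ⊔ W₂) := by
  intro x
  obtain ⟨η, rfl⟩ := exists_mvδ hZ x (h₁ _) (h₂ _)
  rw [h₁₂ η, map_zero]

include hZ in
theorem vz_iSup_disjoint {ι : Type} (q : ℕ) (W : ι → Opens Y) (s : Finset ι)
    (hW : ∀ i ∈ s, Vz Z F (q + 1) (W i))
    (hd : ∀ i ∈ s, ∀ j ∈ s, i ≠ j → Disjoint (W i) (W j)) :
    Vz Z F (q + 1) (s.sup W) := by
  classical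
  induction s using Finset.induction_on with
  | empty => exact vz_bot hZ _
  | insert a s ha ih =>
    rw [Finset.sup_insert]
    refine vz_sup hZ (hW a (Finset.mem_insert_self _ _))
      (ih (fun i hi => hW i (Finset.mem_insert_of_mem hi))
        (fun i hi j hj => hd i (Finset.mem_insert_of_mem hi) j (Finset.mem_insert_of_mem hj))) ?_
    have h1 : W a ⊓ s.sup W = ⊥ := by
      rw [← disjoint_iff, Finset.disjoint_sup_right]
      intro i hi
      exact hd a (Finset.mem_insert_self _ _) i (Finset.mem_insert_of_mem hi)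
        (fun e => ha (e ▸ hi))
    rw [h1]
    exact vz_bot hZ _

variable {S : Set ℂ} {p : Y → ℂ} (h : FinCov S p)

/-- The sheet of a section. -/
def sheet (h : FinCov S p) {D : Set ℂ} (hD : IsOpen D) {σ : ℂ → Y} (hσ : IsSec p D σ) : Opens Y :=
  ⟨σ '' D, h.isOpen_image hD hσ⟩

theorem mem_of_mem_sheet {D : Set ℂ} (hD : IsOpen D) {σ : ℂ → Y} (hσ : IsSec p D σ) {w : Y}
    (hw : w ∈ sheet h hD hσ) : p w ∈ D ∧ σ (p w) = w := by
  obtain ⟨z, hz, hzw⟩ := hw
  rw [← hzw, hσ.sec z hz]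
  exact ⟨hz, rfl⟩

/-- A sheet is homeomorphic to its base. -/
def sheetHomeo {D : Set ℂ} (hD : IsOpen D) {σ : ℂ → Y} (hσ : IsSec p D σ) :
    sheet h hD hσ ≃ₜ D where
  toFun w := ⟨p w.1, (mem_of_mem_sheet h hD hσ w.2).1⟩
  invFun z := ⟨σ z.1, z.1, z.2, rfl⟩
  left_inv w := Subtype.ext (mem_of_mem_sheet h hD hσ w.2).2
  right_inv z := Subtype.ext (hσ.sec z.1 z.2)
  continuous_toFun := (h.continuous.comp continuous_subtype_val).subtype_mk _
  continuous_invFun := (continuousOn_iff_continuous_domRestrict.1 hσ.cont).subtype_mk _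

include h hZ in
/-- Vanishing over a rectangle disjoint from `S`. -/
theorem vz_rect (hbase : ∀ (W : Opens Y) (_ : Nonempty (W ≃ₜ (Fin 2 → ℝ))) (q : ℕ),
    Vz Z F (q + 1) W) {D : Set ℂ} (hD : Rect D) (hDS : Disjoint D S) (q : ℕ) :
    Vz Z F (q + 1) ⟨p ⁻¹' D, hD.isOpen.preimage h.continuous⟩ := by
  classical
  rcases D.eq_empty_or_nonempty with rfl | ⟨d, hd⟩
  · have : (⟨p ⁻¹' ∅, hD.isOpen.preimage h.continuous⟩ : Opens Y) = ⊥ := Opens.ext (preimage_empty (f := p))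
    rw [this]
    exact vz_bot hZ _
  · have hcon := hD.convex
    have hpre : IsPreconnected D := hcon.isPreconnected
    have hsc : IsSimplyConnected D := by
      have := hcon.contractibleSpace ⟨d, hd⟩
      exact (inferInstance : SimplyConnectedSpace D)
    have hDS' : D ⊆ Sᶜ := fun z hz hzS => Set.disjoint_left.1 hDS hz hzS
    have hex : ∀ y : p ⁻¹' {d}, ∃ σ : ℂ → Y, IsSec p D σ ∧ σ d = y.1 := fun y => by
      obtain ⟨σ, h1, h2⟩ := h.exists_sec hD.isOpen hsc hDS' y.1 (by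
        have : p y.1 = d := y.2
        rw [this]
        exact hd)
      refine ⟨σ, h1, ?_⟩
      have : p y.1 = d := y.2
      rwa [this] at h2
    choose σ hσ hσd using hex
    have hfin : Finite (p ⁻¹' {d}) := h.fin d
    have := Fintype.ofFinite (p ⁻¹' {d})
    let W : p ⁻¹' {d} → Opens Y := fun y => sheet h hD.isOpen (hσ y)
    have hsup : (⟨p ⁻¹' D, hD.isOpen.preimage h.continuous⟩ : Opens Y) = Finset.univ.sup W := by
      apply le_antisymm
      · intro w hw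
        have hw' : p w ∈ D := hw
        obtain ⟨τ, h1, h2⟩ := h.exists_sec hD.isOpen hsc hDS' w hw'
        have h3 : p (τ d) = d := h1.sec d hd
        have h4 : EqOn τ (σ ⟨τ d, h3⟩) D :=
          h.eqOn_of_isSec hpre h1 (hσ _) hd (hσd ⟨τ d, h3⟩).symm
        have h5 : w ∈ W ⟨τ d, h3⟩ := ⟨p w, hw', by rw [← h4 hw', h2]⟩
        exact (Finset.le_sup (f := W) (Finset.mem_univ _)) h5
      · refine Finset.sup_le fun y _ => ?_
        rintro _ ⟨z, hz, rfl⟩
        change p (σ y z) ∈ D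
        rw [(hσ y).sec z hz]
        exact hz
    rw [hsup]
    refine vz_iSup_disjoint hZ q W Finset.univ (fun y _ => ?_) (fun y _ y' _ hne => ?_)
    · refine hbase _ ?_ q
      obtain ⟨e⟩ := hD.homeo ⟨d, hd⟩
      exact ⟨(sheetHomeo h hD.isOpen (hσ y)).trans e⟩
    · rw [← Opens.coe_disjoint, Set.disjoint_left]
      rintro _ ⟨z, hz, rfl⟩ ⟨z', hz', hzz⟩
      have h1 := congrArg p hzz
      rw [(hσ y').sec z' hz', (hσ y).sec z hz] at h1
      subst h1
      have h2 := h.eqOn_of_isSec hpre (hσ y) (hσ y') hz hzz.symm hd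
      rw [hσd, hσd] at h2
      exact hne (Subtype.ext h2)

include h hZ in
/-- **Vanishing in degrees `≥ 2`.** -/
theorem vz_top (hS : S.Finite)
    (hbase : ∀ (W : Opens Y) (_ : Nonempty (W ≃ₜ (Fin 2 → ℝ))) (q : ℕ),
    Vz Z F (q + 1) W) (q : ℕ) (hq : 2 ≤ q) : Vz Z F q ⊤ := by
  let Zv : ℕ → Set ℂ → Prop := fun q U =>
    ∀ hU : IsOpen U, Vz Z F q ⟨p ⁻¹' U, hU.preimage h.continuous⟩
  have hvan : Punct.Van Rect S Zv := by
    refine ⟨fun q hU => ?_, ?_, ?_⟩
    · have : (⟨p ⁻¹' ∅, hU.preimage h.continuous⟩ : Opens Y) = ⊥ := Opens.ext (preimage_empty (f := p))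
      rw [this]
      exact vz_bot hZ _
    · intro q D hq hD hDS hU
      obtain ⟨q, rfl⟩ : ∃ r, q = r + 1 := ⟨q - 1, by omega⟩
      exact vz_rect hZ h hbase hD hDS q
    · intro q U V hU hV _ _ h1 h2 h3 hUV
      have e1 : (⟨p ⁻¹' (U ∪ V), hUV.preimage h.continuous⟩ : Opens Y) =
          ⟨p ⁻¹' U, hU.preimage h.continuous⟩ ⊔ ⟨p ⁻¹' V, hV.preimage h.continuous⟩ :=
        Opens.ext rfl
      have e2 : (⟨p ⁻¹' (U ∩ V), (hU.inter hV).preimage h.continuous⟩ : Opens Y) =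
          ⟨p ⁻¹' U, hU.preimage h.continuous⟩ ⊓ ⟨p ⁻¹' V, hV.preimage h.continuous⟩ :=
        Opens.ext rfl
      rw [e1]
      refine vz_sup hZ (h1 hU) (h2 hV) ?_
      rw [← e2]
      exact h3 (hU.inter hV)
  have huniv : Rect univ := ⟨univ, univ, isOpen_univ, ordConnected_univ, isOpen_univ,
    ordConnected_univ, by ext z; simp⟩
  have h1 := Punct.main hS cls_rect hvan q hq univ huniv (by
    exact isOpen_univ.sdiff hS.isClosed)
  have e : (⟨p ⁻¹' (univ \ S), (isOpen_univ.sdiff hS.isClosed).preimage h.continuous⟩ : Opens Y) =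
      ⊤ := by
    apply Opens.ext
    ext y
    simp [h.notMem y]
  rwa [e] at h1

end Van

end Groth.Agent.An.H896.CovVan
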