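import Groth.Agent.An.H896.IntPoly
import Groth.Agent.CalgC.DimFT
import Mathlib.RingTheory.Unramified.LocalRing
import Mathlib.RingTheory.Smooth.Fiber
import Mathlib.RingTheory.Etale.Kaehler
import Mathlib.RingTheory.Etale.Field
import Mathlib.RingTheory.Etale.Locus
import Mathlib.RingTheory.Kaehler.Polynomial
import Mathlib.RingTheory.DedekindDomain.Factorization
import Mathlib.RingTheory.DedekindDomain.Basic
import Mathlib.FieldTheory.IsAlgClosed.Basic
import Mathlib.LinearAlgebra.Dual.Lemmas

/-!
# Generic projections of smooth affine curves (algebra)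

`A` a smooth one-dimensional domain over an algebraically closed field `k` of characteristic zero,
`𝔪` a maximal ideal.  There is `g ∈ 𝔪` such that `A` is finite over `k[g]` and `g ∉ 𝔫 ^ 2` for every
maximal ideal `𝔫` containing `g`; hence `A` is étale over `k[T]`, `T ↦ g`, above a neighbourhood
of `T = 0`.
-/

set_option autoImplicit false
set_option linter.style.haveILetI false

universe u

open Polynomial TensorProduct

namespace Groth.Agent.An.H896.GenProj

section Norm

variable {k A : Type u} [Field k] [CommRing A] [IsDomain A] [Algebra k A]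

/-- One-dimensional Noether normalization. -/
theorem exists_integral [Algebra.FiniteType k A] (hdim : ringKrullDim A = 1) :
    ∃ h : A, Function.Injective (aeval h : k[X] →ₐ[k] A) ∧
      (aeval h : k[X] →ₐ[k] A).toRingHom.IsIntegral := by
  obtain ⟨s, g, hg, hgf⟩ := exists_finite_inj_algHom_of_fg k A
  have hs : s = 1 := by
    algebraize [g.toRingHom]
    have : Module.Finite (MvPolynomial (Fin s) k) A := hgf
    have : Algebra.IsIntegral (MvPolynomial (Fin s) k) A := inferInstance
    have hfs : FaithfulSMul (MvPolynomial (Fin s) k) A :=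
      (faithfulSMul_iff_algebraMap_injective _ _).mpr hg
    have h1 := Groth.Agent.CalgC.DimFT.ringKrullDim_eq_of_isIntegral
      (R := MvPolynomial (Fin s) k) (S := A)
    rw [hdim, Groth.Agent.CalgC.DimFT.ringKrullDim_mvPolynomial_fin] at h1
    exact_mod_cast h1.symm
  subst hs
  let e := (MvPolynomial.uniqueAlgEquiv k (Fin 1)).symm
  have he : (aeval (g (e X)) : k[X] →ₐ[k] A) = g.comp e.toAlgHom := by
    ext
    simp
  refine ⟨g (e X), ?_, ?_⟩
  · rw [he]
    exact hg.comp e.injective
  · rw [he]
    have h1 : g.toRingHom.IsIntegral := RingHom.IsIntegral.of_finite hgf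
    exact RingHom.IsIntegral.trans e.toRingEquiv.toRingHom g.toRingHom
      (RingHom.isIntegral_of_surjective _ e.surjective) h1

omit [IsDomain A] in
theorem aeval_sub_algebraMap (h : A) (c : k) : (aeval (h - algebraMap k A c) : k[X] →ₐ[k] A) =
    (aeval h : k[X] →ₐ[k] A).comp (algEquivAevalXAddC (-c)).toAlgHom := by
  ext
  simp [sub_eq_add_neg]

/-- One-dimensional Noether normalization with a parameter in a given maximal ideal. -/
theorem exists_integral_mem [IsAlgClosed k] [Algebra.FiniteType k A] (hdim : ringKrullDim A = 1)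
    (m : Ideal A) [hm : m.IsMaximal] :
    ∃ h ∈ m, Function.Injective (aeval h : k[X] →ₐ[k] A) ∧
      (aeval h : k[X] →ₐ[k] A).toRingHom.IsIntegral := by
  obtain ⟨h, h1, h2⟩ := exists_integral (k := k) hdim
  obtain ⟨c, hc⟩ : ∃ c : k, h - algebraMap k A c ∈ m := by
    letI := Ideal.Quotient.field m
    have : Module.Finite k (A ⧸ m) := finite_of_finite_type_of_isJacobsonRing k (A ⧸ m)
    obtain ⟨c, hc⟩ := (IsAlgClosed.algebraMap_bijective_of_isIntegral (k := k) (K := A ⧸ m)).2
      (Ideal.Quotient.mk m h)
    refine ⟨c, ?_⟩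
    rw [← Ideal.Quotient.eq_zero_iff_mem, map_sub, sub_eq_zero, ← hc]
    rfl
  refine ⟨_, hc, ?_, ?_⟩
  · rw [aeval_sub_algebraMap]
    exact h1.comp (algEquivAevalXAddC (-c)).injective
  · rw [aeval_sub_algebraMap]
    exact RingHom.IsIntegral.trans (algEquivAevalXAddC (-c)).toRingEquiv.toRingHom _
      (RingHom.isIntegral_of_surjective _ (algEquivAevalXAddC (-c)).surjective) h2

end Norm

section Diff

variable {k A : Type u} [Field k] [CharZero k] [CommRing A] [IsDomain A] [Algebra k A]

/-- If `A` is algebraic over `k[h]` (char 0) and `h` is transcendental then `dh ≠ 0`. -/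
theorem D_ne_zero (h : A) (h1 : Function.Injective (aeval h : k[X] →ₐ[k] A))
    (h2 : (aeval h : k[X] →ₐ[k] A).toRingHom.IsIntegral) : KaehlerDifferential.D k A h ≠ 0 := by
  letI : Algebra k[X] A := (aeval h : k[X] →ₐ[k] A).toRingHom.toAlgebra
  haveI : IsScalarTower k k[X] A := IsScalarTower.of_algebraMap_eq
    (fun x => ((aeval h : k[X] →ₐ[k] A).commutes x).symm)
  haveI : Algebra.IsIntegral k[X] A := ⟨h2⟩
  haveI : FaithfulSMul k[X] A := (faithfulSMul_iff_algebraMap_injective _ _).mpr h1
  let L := FractionRing k[X]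
  let K := FractionRing A
  letI : Algebra L K := FractionRing.liftAlgebra k[X] K
  haveI : IsScalarTower k[X] L K := FractionRing.isScalarTower_liftAlgebra k[X] K
  haveI : Algebra.IsAlgebraic A K :=
    (IsFractionRing.comap_isAlgebraic_iff (A := A) (K := K) (C := K)).mpr inferInstance
  haveI : Algebra.IsAlgebraic k[X] K := Algebra.IsAlgebraic.trans k[X] A K
  haveI : Algebra.IsAlgebraic L K := inferInstance
  haveI : CharZero L := algebraRat.charZero L
  haveI : Algebra.FormallyEtale L K := Algebra.FormallyEtale.of_isSeparable L K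
  haveI : Algebra.FormallyEtale k[X] L := Algebra.FormallyEtale.of_isLocalization (nonZeroDivisors k[X])
  haveI : Algebra.FormallyEtale k[X] K := Algebra.FormallyEtale.comp k[X] L K
  haveI : IsScalarTower k k[X] K := inferInstance
  intro h0
  have h3 : KaehlerDifferential.D k K (algebraMap k[X] K X) = 0 := by
    have h4 : algebraMap k[X] K X = algebraMap A K h := by
      rw [IsScalarTower.algebraMap_apply k[X] A K]
      congr 1
      exact aeval_X h
    rw [h4]
    have := KaehlerDifferential.map_D k k A K h
    rw [← this, h0, map_zero]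
  have h4 := KaehlerDifferential.tensorKaehlerEquivOfFormallyEtale_symm_D_algebraMap k k[X] K X
  rw [h3, map_zero] at h4
  let e := LinearEquiv.lTensor K (KaehlerDifferential.polynomialEquiv k)
  have h5 : e (1 ⊗ₜ KaehlerDifferential.D k k[X] X) = 0 := by
    rw [← h4, map_zero]
  have h6 : (1 : K) ⊗ₜ[k[X]] (1 : k[X]) = 0 := by
    rw [← h5]
    simp [e]
  have h7 : TensorProduct.rid k[X] K ((1 : K) ⊗ₜ[k[X]] (1 : k[X])) = 0 := by
    rw [h6, map_zero]
  simp at h7

end Diff

end Groth.Agent.An.H896.GenProj
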