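import Groth.Agent.An.H896.GenProj

/-!
# Generic projections of smooth affine curves: choice of the function
-/

set_option autoImplicit false
set_option linter.style.haveILetI false

universe u

open Polynomial

namespace Groth.Agent.An.H896.GenProj

section Dedekind

variable {A : Type u} [CommRing A] [IsDedekindDomain A]

theorem finite_ideals_mem {w : A} (hw : w ≠ 0) : {J : Ideal A | w ∈ J}.Finite := by
  have h0 : Ideal.span {w} ≠ 0 := by
    rw [Ne, Ideal.zero_eq_bot, Ideal.span_singleton_eq_bot]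
    exact hw
  letI := UniqueFactorizationMonoid.fintypeSubtypeDvd (Ideal.span {w}) h0
  have : {J : Ideal A | w ∈ J} = Set.range (Subtype.val : {J : Ideal A // J ∣ Ideal.span {w}} → _) := by
    ext J
    simp [Ideal.dvd_span_singleton]
  rw [this]
  exact Set.finite_range _

theorem exists_a {h : A} (hh : h ≠ 0) (m : Ideal A) [hm : m.IsMaximal] (hm0 : m ≠ ⊥) :
    ∃ a ∈ m, a ∉ m ^ 2 ∧ ∀ n : Ideal A, n.IsMaximal → h ∈ n → a ∈ n → n = m := by
  classical
  let s : Finset (Ideal A) := (finite_ideals_mem hh).toFinset.filter (fun n => n.IsMaximal ∧ n ≠ m)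
  have h1 := Ideal.subset_union_prime' (s := s) (f := fun n : Ideal A => n) (a := m ^ 2) (b := m ^ 2)
    (I := m) (fun i hi => by
      rw [Finset.mem_filter] at hi
      exact hi.2.1.isPrime)
  have h2 : ¬ ((m : Set A) ⊆ ((m ^ 2 : Ideal A) : Set A) ∪ ((m ^ 2 : Ideal A) : Set A) ∪
      ⋃ i ∈ (↑s : Set (Ideal A)), (i : Set A)) := by
    rw [h1]
    rintro (h | h | ⟨n, hn, h⟩)
    · have := m.pow_right_strictAnti hm0 hm.ne_top (show 1 < 2 by norm_num)
      simp only [pow_one] at this
      exact absurd h this.not_ge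
    · have := m.pow_right_strictAnti hm0 hm.ne_top (show 1 < 2 by norm_num)
      simp only [pow_one] at this
      exact absurd h this.not_ge
    · rw [Finset.mem_filter] at hn
      exact hn.2.2 (hm.eq_of_le hn.2.1.ne_top h).symm
  rw [Set.not_subset] at h2
  obtain ⟨a, ha, ha'⟩ := h2
  simp only [Set.union_self, Set.mem_union, SetLike.mem_coe, Set.mem_iUnion, exists_prop,
    not_or, not_exists, not_and] at ha'
  refine ⟨a, ha, ha'.1, fun n hn hhn han => ?_⟩
  by_contra hne
  refine ha'.2 n ?_ han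
  rw [Finset.mem_filter]
  exact ⟨by simpa using hhn, hn, hne⟩

end Dedekind

section Main

variable {k A : Type u} [Field k] [IsAlgClosed k] [CharZero k] [CommRing A]
  [Algebra k A] [Algebra.FiniteType k A] [IsDedekindDomain A]

omit [IsAlgClosed k] [Algebra.FiniteType k A] in
theorem exists_derivation [Algebra.Smooth k A] (h : A)
    (h1 : Function.Injective (aeval h : k[X] →ₐ[k] A))
    (h2 : (aeval h : k[X] →ₐ[k] A).toRingHom.IsIntegral) : ∃ δ : Derivation k A A, δ h ≠ 0 := by
  obtain ⟨φ, hφ⟩ := Module.Projective.exists_dual_ne_zero A (D_ne_zero h h1 h2)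
  exact ⟨φ.compDer (KaehlerDifferential.D k A), hφ⟩

omit [IsAlgClosed k] [CharZero k] [Algebra.FiniteType k A] [IsDedekindDomain A] in
theorem derivation_mem_of_sq (δ : Derivation k A A) (n : Ideal A) (g : A) (hg : g ∈ n ^ 2) :
    δ g ∈ n := by
  rw [sq] at hg
  refine Submodule.mul_induction_on hg (fun a ha b hb => ?_) (fun a b ha hb => ?_)
  · rw [Derivation.leibniz, smul_eq_mul, smul_eq_mul]
    exact n.add_mem (n.mul_mem_right _ ha) (n.mul_mem_right _ hb)
  · rw [map_add]
    exact n.add_mem ha hb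

/-- The choice of `g`: finite over `k[g]`, unramified above `g = 0`. -/
theorem exists_good [Algebra.Smooth k A] (hdim : ringKrullDim A = 1) (m : Ideal A) [hm : m.IsMaximal] :
    ∃ g ∈ m, (aeval g : k[X] →ₐ[k] A).toRingHom.IsIntegral ∧
      ∀ n : Ideal A, n.IsMaximal → g ∈ n → g ∉ n ^ 2 := by
  have hm0 : m ≠ ⊥ := by
    rintro rfl
    have hf : IsField A := Ring.isField_iff_maximal_bot.mpr hm
    letI := hf.toField
    have := ringKrullDim_eq_zero_of_field A
    rw [hdim] at this
    exact absurd this (by decide)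
  obtain ⟨h, hhm, h1, h2⟩ := exists_integral_mem (k := k) hdim m
  have hh0 : h ≠ 0 := by
    rintro rfl
    have h3 : (aeval (0 : A) : k[X] →ₐ[k] A) X = (aeval (0 : A) : k[X] →ₐ[k] A) 0 := by simp
    exact X_ne_zero (h1 h3)
  obtain ⟨δ, hδ⟩ := exists_derivation h h1 h2
  obtain ⟨a, ham, ha2, ha⟩ := exists_a hh0 m hm0
  have ha0 : a ≠ 0 := by
    rintro rfl
    exact ha2 (Ideal.zero_mem _)
  obtain ⟨N₀, hN₀⟩ := IntPoly.exists_forall_isIntegralElem (k := k) h a (h2 a)
  have hchar : CharZero A := charZero_of_injective_algebraMap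
    (FaithfulSMul.algebraMap_injective k A)
  obtain ⟨N, hN, hN2, hw⟩ : ∃ N ≥ N₀, 2 ≤ N ∧ (N : A) * a * δ h - h * δ a ≠ 0 := by
    by_contra hcon
    push Not at hcon
    have e1 := hcon (N₀ + 2) (by omega) (by omega)
    have e2 := hcon (N₀ + 3) (by omega) (by omega)
    have e3 : a * δ h = 0 := by
      push_cast at e1 e2
      linear_combination e2 - e1
    rcases mul_eq_zero.mp e3 with h | h
    · exact ha0 h
    · exact hδ h
  set w : A := h ^ (N - 1) * ((N : A) * a * δ h - h * δ a) with hwdef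
  have hw0 : w ≠ 0 := mul_ne_zero (pow_ne_zero _ hh0) hw
  -- bad values
  have hbad : {c : k | ∃ n : Ideal A, w ∈ n ∧ n.IsMaximal ∧ a ∉ n ∧
      h ^ N + algebraMap k A c * a ∈ n}.Finite := by
    have : {c : k | ∃ n : Ideal A, w ∈ n ∧ n.IsMaximal ∧ a ∉ n ∧
        h ^ N + algebraMap k A c * a ∈ n} ⊆
        ⋃ n ∈ {J : Ideal A | w ∈ J}, {c : k | n.IsMaximal ∧ a ∉ n ∧
          h ^ N + algebraMap k A c * a ∈ n} := by
      rintro c ⟨n, h1, h2⟩
      simp only [Set.mem_iUnion]
      exact ⟨n, h1, h2⟩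
    refine ((finite_ideals_mem hw0).biUnion (fun n _ => ?_)).subset this
    refine Set.Subsingleton.finite ?_
    rintro c ⟨hn, han, hc⟩ c' ⟨-, -, hc'⟩
    by_contra hne
    have h3 : algebraMap k A (c - c') * a ∈ n := by
      have := n.sub_mem hc hc'
      convert this using 1
      rw [map_sub]
      ring
    rcases hn.isPrime.mem_or_mem h3 with h | h
    · refine hn.ne_top (Ideal.eq_top_of_isUnit_mem _ h ?_)
      exact (IsUnit.mk0 _ (sub_ne_zero.mpr hne)).map _
    · exact han h
  obtain ⟨c, hc⟩ := (hbad.union (Set.finite_singleton (0 : k))).infinite_compl.nonempty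
  simp only [Set.mem_compl_iff, Set.mem_union, Set.mem_singleton_iff, not_or] at hc
  obtain ⟨hc1, hc0⟩ := hc
  have hcu : IsUnit (algebraMap k A c) := (IsUnit.mk0 _ hc0).map _
  refine ⟨h ^ N + algebraMap k A c * a, ?_, ?_, ?_⟩
  · exact m.add_mem (Ideal.pow_mem_of_mem _ hhm _ (by omega)) (m.mul_mem_left _ ham)
  · -- integrality
    set g := h ^ N + algebraMap k A c * a with hg
    have hh := hN₀ N hN c
    rw [← hg] at hh
    letI : Algebra k[X] A := (aeval g : k[X] →ₐ[k] A).toRingHom.toAlgebra
    haveI : IsScalarTower k k[X] A := IsScalarTower.of_algebraMap_eq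
      (fun x => ((aeval g : k[X] →ₐ[k] A).commutes x).symm)
    intro b
    let B : Subalgebra k[X] A := integralClosure k[X] A
    have hhB : h ∈ B := hh
    obtain ⟨P, hPm, hPb⟩ := h2 b
    have hb : IsIntegral B b := by
      let ψ : k[X] →+* B := eval₂RingHom (algebraMap k B) ⟨h, hhB⟩
      refine ⟨P.map ψ, hPm.map ψ, ?_⟩
      rw [eval₂_map]
      have : (algebraMap B A).comp ψ = (aeval h : k[X] →ₐ[k] A).toRingHom := by
        ext x
        · simp [ψ]
        · simp [ψ]
      rw [this]
      exact hPb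
    exact isIntegral_trans (R := k[X]) (A := B) b hb
  · intro n hn hgn hgn2
    by_cases han : a ∈ n
    · have hhn : h ∈ n := by
        have : h ^ N ∈ n := by
          have := n.sub_mem hgn (n.mul_mem_left (algebraMap k A c) han)
          simpa using this
        exact hn.isPrime.mem_of_pow_mem _ this
      have := ha n hn hhn han
      subst this
      apply ha2
      have h3 : h ^ N ∈ n ^ 2 := Ideal.pow_le_pow_right hN2 (Ideal.pow_mem_pow hhn N)
      have h4 := (n ^ 2).sub_mem hgn2 h3
      rw [add_sub_cancel_left] at h4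
      exact (Ideal.unit_mul_mem_iff_mem _ hcu).mp h4
    · refine hc1 ⟨n, ?_, hn, han, hgn⟩
      have h3 := derivation_mem_of_sq δ n _ hgn2
      have h4 : w = a * δ (h ^ N + algebraMap k A c * a) -
          (h ^ N + algebraMap k A c * a) * δ a := by
        rw [map_add, Derivation.leibniz_pow, Derivation.leibniz, Derivation.map_algebraMap]
        obtain ⟨M, rfl⟩ : ∃ M, N = M + 1 := ⟨N - 1, by omega⟩
        simp only [hwdef, Nat.add_sub_cancel, smul_eq_mul, nsmul_eq_mul]
        push_cast
        ring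
      rw [h4]
      exact n.sub_mem (n.mul_mem_left _ h3) (n.mul_mem_right _ hgn)

end Main

end Groth.Agent.An.H896.GenProj
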