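import Groth.Agent.An.H896.GenProj2

/-!
# Generic projections of smooth affine curves: étaleness near `0`
-/

set_option autoImplicit false
set_option linter.style.haveILetI false

universe u

open Polynomial

namespace Groth.Agent.An.H896.GenProj

section Et

variable {k A : Type u} [Field k] [IsAlgClosed k] [CharZero k] [CommRing A]
  [Algebra k A] [Algebra.FiniteType k A] [IsDedekindDomain A]

omit [IsAlgClosed k] [CharZero k] [Algebra.FiniteType k A] in
theorem map_eq_of_mem_of_notMem (n : Ideal A) [n.IsMaximal] (g : A) (h1 : g ∈ n) (h2 : g ∉ n ^ 2) :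
    (Ideal.span {g}).map (algebraMap A (Localization.AtPrime n)) =
      IsLocalRing.maximalIdeal (Localization.AtPrime n) := by
  have h3 : n ∣ Ideal.span {g} := Ideal.dvd_span_singleton.mpr h1
  obtain ⟨J, hJ⟩ := h3
  have h4 : ¬ J ≤ n := by
    intro h
    apply h2
    have : Ideal.span {g} ≤ n ^ 2 := by
      rw [hJ, sq]
      exact Ideal.mul_mono_right h
    exact this (Ideal.mem_span_singleton_self g)
  obtain ⟨x, hxJ, hxn⟩ := SetLike.not_le_iff_exists.mp h4
  have h5 : J.map (algebraMap A (Localization.AtPrime n)) = ⊤ := by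
    refine Ideal.eq_top_of_isUnit_mem _ (Ideal.mem_map_of_mem _ hxJ) ?_
    exact IsLocalization.map_units (Localization.AtPrime n) (⟨x, hxn⟩ : n.primeCompl)
  rw [hJ, Ideal.map_mul, h5, Ideal.mul_top, Localization.AtPrime.map_eq_maximalIdeal]

/-- Étaleness of `k[T] → A` above `T = 0`. -/
theorem exists_etale (hdim : ringKrullDim A = 1) (g : A)
    (hint : (aeval g : k[X] →ₐ[k] A).toRingHom.IsIntegral)
    (hg : ∀ n : Ideal A, n.IsMaximal → g ∈ n → g ∉ n ^ 2) :
    letI : Algebra k[X] A := (aeval g : k[X] →ₐ[k] A).toRingHom.toAlgebra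
    Module.Finite k[X] A ∧ Module.Flat k[X] A ∧ ∃ D : k[X], D.eval 0 ≠ 0 ∧
      Algebra.Etale k[X] (Localization.Away (aeval g D : A)) := by
  letI : Algebra k[X] A := (aeval g : k[X] →ₐ[k] A).toRingHom.toAlgebra
  haveI : IsScalarTower k k[X] A := IsScalarTower.of_algebraMap_eq
      (fun x => ((aeval g : k[X] →ₐ[k] A).commutes x).symm)
  haveI : Algebra.IsIntegral k[X] A := ⟨hint⟩
  haveI : Algebra.FiniteType k[X] A := Algebra.FiniteType.of_restrictScalars_finiteType k k[X] A
  haveI hfin : Module.Finite k[X] A := Algebra.IsIntegral.finite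
  have hinj : Function.Injective (algebraMap k[X] A) := by
    rw [injective_iff_map_eq_zero]
    by_contra hcon
    push Not at hcon
    obtain ⟨P, hP, hP0⟩ := hcon
    -- `k[X]/P` is finite over `k`, so `A` is finite over `k`
    have h1 : Module.Finite k A := by
      let I : Ideal k[X] := Ideal.span {P}
      have h2 : Module.Finite k (k[X] ⧸ I) := by
        have hf := (AdjoinRoot.powerBasis hP0).finite
        exact hf
      let ψ : (k[X] ⧸ I) →+* A := Ideal.Quotient.lift I (algebraMap k[X] A) (by
        intro a ha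
        obtain ⟨b, rfl⟩ := Ideal.mem_span_singleton.mp ha
        rw [map_mul, hP, zero_mul])
      have e0 : ψ.comp (Ideal.Quotient.mk I) = algebraMap k[X] A := Ideal.Quotient.lift_comp_mk _ _ _
      have e1 : ψ.Finite := by
        have : (ψ.comp (Ideal.Quotient.mk I)).Finite := by rw [e0]; exact hfin
        exact this.of_comp_finite
      have e2 : (algebraMap k (k[X] ⧸ I)).Finite := RingHom.finite_algebraMap.mpr h2
      have e3 : ψ.comp (algebraMap k (k[X] ⧸ I)) = algebraMap k A := by
        rw [IsScalarTower.algebraMap_eq k k[X] A, ← e0]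
        rfl
      have e4 : (algebraMap k A).Finite := by
        rw [← e3]
        exact e1.comp e2
      exact RingHom.finite_algebraMap.mp e4
    have h3 : IsField A := isField_of_isIntegral_of_isField' (R := k) (Field.toIsField k)
    letI := h3.toField
    have := ringKrullDim_eq_zero_of_field A
    rw [hdim] at this
    exact absurd this (by decide)
  haveI : FaithfulSMul k[X] A := (faithfulSMul_iff_algebraMap_injective _ _).mpr hinj
  haveI hflat : Module.Flat k[X] A := inferInstance
  haveI : Algebra.FinitePresentation k[X] A := Algebra.FinitePresentation.of_finiteType.mp inferInstance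
  refine ⟨hfin, hflat, ?_⟩
  -- the prime `(T)`
  let p : Ideal k[X] := Ideal.span {X}
  haveI hp : p.IsMaximal := by
    have := PrincipalIdealRing.isMaximal_of_irreducible (irreducible_X (R := k))
    exact this
  have hpt : ∀ q : PrimeSpectrum A, PrimeSpectrum.comap (algebraMap k[X] A) q = ⟨p, hp.isPrime⟩ →
      q ∈ Algebra.etaleLocus k[X] A := by
    intro q hq
    have hq' : q.asIdeal.comap (algebraMap k[X] A) = p := congrArg PrimeSpectrum.asIdeal hq
    haveI : q.asIdeal.LiesOver p := ⟨hq'.symm⟩
    haveI : q.asIdeal.IsMaximal := Ideal.IsMaximal.of_liesOver_isMaximal q.asIdeal p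
    have hgq : g ∈ q.asIdeal := by
      have : X ∈ q.asIdeal.comap (algebraMap k[X] A) := by
        rw [hq']
        exact Ideal.mem_span_singleton_self X
      have h6 : algebraMap k[X] A X ∈ q.asIdeal := this
      have h7 : algebraMap k[X] A X = g := aeval_X g
      rwa [h7] at h6
    have h8 := map_eq_of_mem_of_notMem q.asIdeal g hgq (hg _ inferInstance hgq)
    letI := Localization.AtPrime.algebraOfLiesOver p q.asIdeal
    haveI : Algebra.IsUnramifiedAt k[X] q.asIdeal := by
      rw [Algebra.isUnramifiedAt_iff_map_eq k[X] p q.asIdeal]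
      constructor
      · haveI : CharZero p.ResidueField := by
          have : CharZero k := inferInstance
          exact charZero_of_injective_algebraMap (R := k) (FaithfulSMul.algebraMap_injective k _)
        haveI : Algebra.IsIntegral p.ResidueField q.asIdeal.ResidueField := inferInstance
        infer_instance
      · rw [← h8, IsScalarTower.algebraMap_eq k[X] A, ← Ideal.map_map]
        congr 1
        rw [Ideal.map_span, Set.image_singleton]
        congr 2
        exact aeval_X g
    exact Algebra.IsEtaleAt.of_isUnramifiedAt_of_flat q.asIdeal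
  let Z : Set (PrimeSpectrum A) := (Algebra.etaleLocus k[X] A)ᶜ
  have hZ : IsClosed Z := Algebra.isOpen_etaleLocus.isClosed_compl
  have hZ2 : IsClosed (PrimeSpectrum.comap (algebraMap k[X] A) '' Z) :=
    PrimeSpectrum.isClosedMap_comap_of_isIntegral _ hint _ hZ
  have hnot : (⟨p, hp.isPrime⟩ : PrimeSpectrum k[X]) ∉
      PrimeSpectrum.comap (algebraMap k[X] A) '' Z := by
    rintro ⟨q, hq, hq2⟩
    exact hq (hpt q hq2)
  obtain ⟨_, ⟨_, ⟨D, rfl⟩, rfl⟩, hD1, hD2⟩ :=
    PrimeSpectrum.isBasis_basic_opens.exists_subset_of_mem_open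
      (show (⟨p, hp.isPrime⟩ : PrimeSpectrum k[X]) ∈
        (PrimeSpectrum.comap (algebraMap k[X] A) '' Z)ᶜ from hnot) hZ2.isOpen_compl
  refine ⟨D, ?_, ?_⟩
  · intro h0
    apply (PrimeSpectrum.mem_basicOpen D _).mp hD1
    change D ∈ Ideal.span {X}
    rw [Ideal.mem_span_singleton, X_dvd_iff, coeff_zero_eq_eval_zero, h0]
  · have : (PrimeSpectrum.basicOpen (aeval g D : A) : Set (PrimeSpectrum A)) ⊆
        Algebra.etaleLocus k[X] A := by
      intro q hq
      by_contra hcon
      have h1 : PrimeSpectrum.comap (algebraMap k[X] A) q ∈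
        PrimeSpectrum.comap (algebraMap k[X] A) '' Z := ⟨q, hcon, rfl⟩
      exact hD2 (show PrimeSpectrum.comap (algebraMap k[X] A) q ∈ PrimeSpectrum.basicOpen D from hq) h1
    exact Algebra.basicOpen_subset_etaleLocus_iff_etale.mp this

/-- **Generic projection**: `A` a smooth one-dimensional domain over `k` (algebraically closed of
characteristic zero), `m` maximal.  There are `g ∈ m` and `D ∈ k[T]` with `D(0) ≠ 0` such that `A` is
finite over `k[T]` (`T ↦ g`) and étale over `k[T]` above `D ≠ 0`. -/
theorem exists_finite_etale [Algebra.Smooth k A] (hdim : ringKrullDim A = 1) (m : Ideal A)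
    [hm : m.IsMaximal] :
    ∃ g ∈ m, letI : Algebra k[X] A := (aeval g : k[X] →ₐ[k] A).toRingHom.toAlgebra
      Module.Finite k[X] A ∧ Module.Flat k[X] A ∧ ∃ D : k[X], D.eval 0 ≠ 0 ∧
      Algebra.Etale k[X] (Localization.Away (aeval g D : A)) := by
  obtain ⟨g, hg, h1, h2⟩ := exists_good (k := k) hdim m
  exact ⟨g, hg, exists_etale hdim g h1 h2⟩

end Et

end Groth.Agent.An.H896.GenProj
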