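import Mathlib.RingTheory.IntegralClosure.Algebra.Basic
import Mathlib.RingTheory.IntegralClosure.IsIntegralClosure.Basic
import Mathlib.RingTheory.Polynomial.Basic
import Mathlib.Algebra.Polynomial.AlgebraMap
import Mathlib.Algebra.Polynomial.Monic
import Mathlib.Tactic.Ring
import Mathlib.Tactic.LinearCombination

/-!
# If `a` is integral over `k[h]` then `h` is integral over `k[h ^ N + c a]` for `N` large
-/

set_option autoImplicit false

open Polynomial

namespace Groth.Agent.An.H896.IntPoly

variable {k A : Type*} [Field k] [CommRing A] [Algebra k A]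

/-- The polynomial used in `isIntegralElem`. -/
noncomputable def Q (P : k[X][X]) (N : ℕ) (c : k) : k[X][X] :=
  (X ^ N - C X) ^ P.natDegree + ∑ j ∈ Finset.range P.natDegree,
    C (C ((-c) ^ (P.natDegree - j))) * ((P.coeff j).map C) * (X ^ N - C X) ^ j

theorem monic_Q (P : k[X][X]) (N : ℕ) (c : k) (hN : 0 < N)
    (hP : ∀ j < P.natDegree, (P.coeff j).natDegree < N) : (Q P N c).Monic := by
  have hm : (X ^ N - C X : k[X][X]).Monic := monic_X_pow_sub_C X hN.ne'
  have hd : (X ^ N - C X : k[X][X]).natDegree = N := natDegree_X_pow_sub_C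
  refine (hm.pow P.natDegree).add_of_left ?_
  have h1 : ((X ^ N - C X : k[X][X]) ^ P.natDegree).degree = ((P.natDegree * N : ℕ) : WithBot ℕ) := by
    rw [degree_eq_natDegree (hm.pow _).ne_zero, hm.natDegree_pow, hd]
  rw [h1]
  refine (degree_sum_le _ _).trans_lt ?_
  rw [Finset.sup_lt_iff (WithBot.bot_lt_coe _)]
  intro j hj
  rw [Finset.mem_range] at hj
  refine (degree_le_natDegree).trans_lt ?_
  rw [Nat.cast_lt]
  calc _ ≤ (C (C ((-c) ^ (P.natDegree - j))) * ((P.coeff j).map C)).natDegree +
        ((X ^ N - C X : k[X][X]) ^ j).natDegree := natDegree_mul_le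
    _ ≤ (P.coeff j).natDegree + j * N := by
        gcongr
        · refine natDegree_mul_le.trans ?_
          rw [natDegree_C, zero_add]
          exact natDegree_map_le
        · rw [hm.natDegree_pow, hd]
    _ < N + j * N := by
        have := hP j hj
        omega
    _ = (j + 1) * N := by ring
    _ ≤ P.natDegree * N := Nat.mul_le_mul_right _ hj

/-- `h` is integral over `k[h ^ N + c a]`. -/
theorem isIntegralElem (h a : A) (P : k[X][X]) (hPm : P.Monic)
    (hPa : P.eval₂ (aeval h : k[X] →ₐ[k] A).toRingHom a = 0) (N : ℕ) (hN : 0 < N)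
    (hP : ∀ j < P.natDegree, (P.coeff j).natDegree < N) (c : k) :
    (aeval (h ^ N + algebraMap k A c * a) : k[X] →ₐ[k] A).toRingHom.IsIntegralElem h := by
  refine ⟨Q P N c, monic_Q P N c hN hP, ?_⟩
  set g := h ^ N + algebraMap k A c * a with hg
  have e1 : (X ^ N - C X : k[X][X]).eval₂ (aeval g : k[X] →ₐ[k] A).toRingHom h =
      -(algebraMap k A c) * a := by
    rw [eval₂_sub, eval₂_pow, eval₂_X, eval₂_C]
    simp only [AlgHom.toRingHom_eq_coe, RingHom.coe_coe, aeval_X]
    rw [hg]
    ring
  have e2 : ∀ p : k[X], (p.map C).eval₂ (aeval g : k[X] →ₐ[k] A).toRingHom h = aeval h p := by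
    intro p
    rw [eval₂_map, aeval_def]
    congr 1
    ext x
    simp
  rw [Q, eval₂_add, eval₂_pow, e1, eval₂_finsetSum]
  have e3 : ∀ j ∈ Finset.range P.natDegree,
      (C (C ((-c) ^ (P.natDegree - j))) * ((P.coeff j).map C) * (X ^ N - C X) ^ j :
        k[X][X]).eval₂ (aeval g : k[X] →ₐ[k] A).toRingHom h =
      (-(algebraMap k A c)) ^ P.natDegree * (aeval h (P.coeff j) * a ^ j) := by
    intro j hj
    rw [Finset.mem_range] at hj
    rw [eval₂_mul, eval₂_mul, eval₂_pow, e1, e2, eval₂_C]
    simp only [AlgHom.toRingHom_eq_coe, RingHom.coe_coe, aeval_C, map_pow, map_neg]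
    have : (-(algebraMap k A c)) ^ P.natDegree =
        (-(algebraMap k A c)) ^ (P.natDegree - j) * (-(algebraMap k A c)) ^ j := by
      rw [← pow_add]
      congr 1
      omega
    rw [this, mul_pow]
    ring
  rw [Finset.sum_congr rfl e3, ← Finset.mul_sum, mul_pow, ← mul_add]
  rw [eval₂_eq_sum_range, Finset.sum_range_succ, coeff_natDegree, hPm.leadingCoeff, map_one,
    one_mul] at hPa
  have : a ^ P.natDegree + ∑ j ∈ Finset.range P.natDegree, aeval h (P.coeff j) * a ^ j = 0 := by
    rw [← hPa, add_comm]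
    rfl
  rw [this, mul_zero]

/-- If `a` is integral over `k[h]`, then for all large `N` and all `c`, `h` is integral over
`k[h ^ N + c a]`. -/
theorem exists_forall_isIntegralElem (h a : A)
    (ha : (aeval h : k[X] →ₐ[k] A).toRingHom.IsIntegralElem a) :
    ∃ N₀ : ℕ, ∀ N ≥ N₀, ∀ c : k,
      (aeval (h ^ N + algebraMap k A c * a) : k[X] →ₐ[k] A).toRingHom.IsIntegralElem h := by
  obtain ⟨P, hPm, hPa⟩ := ha
  refine ⟨(Finset.range P.natDegree).sup (fun j => (P.coeff j).natDegree) + 1, fun N hN c => ?_⟩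
  refine isIntegralElem h a P hPm hPa N (by omega) (fun j hj => ?_) c
  have : (P.coeff j).natDegree ≤ (Finset.range P.natDegree).sup (fun j => (P.coeff j).natDegree) :=
    Finset.le_sup (f := fun j => (P.coeff j).natDegree) (Finset.mem_range.2 hj)
  omega

end Groth.Agent.An.H896.IntPoly
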