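import Mathlib.Analysis.Complex.Basic
import Mathlib.Data.Set.Card

/-!
# Combinatorics of Mayer-Vietoris for a punctured plane

`Z q U` is a property of open sets `U ⊆ ℂ` (think: `H^q` of the preimage of `U` vanishes), which holds
for `q ≥ 1` on the sets of a class `K` (rectangles, convex sets) not meeting the finite set `S`, and
satisfies the Mayer-Vietoris implication.  Then `Z q (D \ S)` for `q ≥ 2` and `D` in `K`.
-/

set_option autoImplicit false

open Set

namespace Groth.Agent.An.H896.Punct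

/-- The class of sets. -/
structure Cls (K : Set ℂ → Prop) : Prop where
  isOpen : ∀ D, K D → IsOpen D
  reLt : ∀ D (c : ℝ), K D → K (D ∩ {z | z.re < c})
  reGt : ∀ D (c : ℝ), K D → K (D ∩ {z | c < z.re})
  imLt : ∀ D (c : ℝ), K D → K (D ∩ {z | z.im < c})
  imGt : ∀ D (c : ℝ), K D → K (D ∩ {z | c < z.im})

/-- The formal properties of cohomology. -/
structure Van (K : Set ℂ → Prop) (S : Set ℂ) (Z : ℕ → Set ℂ → Prop) : Prop where
  empty : ∀ q, Z q ∅
  base : ∀ q D, 1 ≤ q → K D → Disjoint D S → Z q D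
  mv : ∀ q U V, IsOpen U → IsOpen V → Disjoint U S → Disjoint V S → Z (q + 1) U → Z (q + 1) V →
    Z q (U ∩ V) → Z (q + 1) (U ∪ V)

variable {K : Set ℂ → Prop} {S : Set ℂ} {Z : ℕ → Set ℂ → Prop}

theorem exists_gap {F : Set ℝ} (hF : F.Finite) {a b : ℝ} (hab : a < b) :
    ∃ c c' : ℝ, a < c ∧ c < c' ∧ c' < b ∧ ∀ x ∈ F, ¬ (c < x ∧ x < c') := by
  obtain ⟨m, hm, hmF⟩ : ∃ m ∈ Ioo a b, m ∉ F := by
    have := (Ioo_infinite hab).sdiff hF
    obtain ⟨m, hm⟩ := this.nonempty
    exact ⟨m, hm.1, hm.2⟩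
  have ho : IsOpen (Fᶜ ∩ Ioo a b) := hF.isClosed.isOpen_compl.inter isOpen_Ioo
  obtain ⟨l, u, hlu, hsub⟩ := mem_nhds_iff_exists_Ioo_subset.1 (ho.mem_nhds ⟨hmF, hm⟩)
  refine ⟨max l ((a + m) / 2), min u ((m + b) / 2), ?_, ?_, ?_, ?_⟩
  · exact lt_max_of_lt_right (by linarith [hm.1])
  · rw [max_lt_iff, lt_min_iff, lt_min_iff]
    refine ⟨⟨hlu.1.trans hlu.2, ?_⟩, ?_, ?_⟩
    · linarith [hlu.1, hm.2]
    · linarith [hlu.2, hm.1]
    · linarith [hm.1, hm.2]
  · exact min_lt_of_right_lt (by linarith [hm.2])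
  · rintro x hx ⟨h1, h2⟩
    exact (hsub ⟨(le_max_left _ _).trans_lt h1, h2.trans_le (min_le_left _ _)⟩).1 hx

/-- The case of a single puncture. -/
theorem one (hK : Cls K) (hZ : Van K S Z) (q : ℕ) (hq : 2 ≤ q) (D : Set ℂ) (hD : K D) (s : ℂ)
    (hs : D ∩ S = {s}) : Z q (D \ S) := by
  obtain ⟨q, rfl⟩ : ∃ r, q = r + 2 := ⟨q - 2, by omega⟩
  have hsub : ∀ z, z ∈ D → z ≠ s → z ∉ S := fun z hz hne hzS => by
    have : z ∈ D ∩ S := ⟨hz, hzS⟩
    rw [hs] at this
    exact hne this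
  set L := D ∩ {z | z.re < s.re} with hL
  set R := D ∩ {z | s.re < z.re} with hR
  set B := D ∩ {z | z.im < s.im} with hB
  set T := D ∩ {z | s.im < z.im} with hT
  have kL : K L := hK.reLt D _ hD
  have kR : K R := hK.reGt D _ hD
  have kB : K B := hK.imLt D _ hD
  have kT : K T := hK.imGt D _ hD
  have dL : Disjoint L S := Set.disjoint_left.2 fun z hz => hsub z hz.1 (by
    rintro rfl
    have h2 := hz.2
    simp only [mem_ofPred_eq, lt_self_iff_false] at h2)
  have dR : Disjoint R S := Set.disjoint_left.2 fun z hz => hsub z hz.1 (by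
    rintro rfl
    have h2 := hz.2
    simp only [mem_ofPred_eq, lt_self_iff_false] at h2)
  have dB : Disjoint B S := Set.disjoint_left.2 fun z hz => hsub z hz.1 (by
    rintro rfl
    have h2 := hz.2
    simp only [mem_ofPred_eq, lt_self_iff_false] at h2)
  have dT : Disjoint T S := Set.disjoint_left.2 fun z hz => hsub z hz.1 (by
    rintro rfl
    have h2 := hz.2
    simp only [mem_ofPred_eq, lt_self_iff_false] at h2)
  have kLT : K (L ∩ T) := by
    have := hK.imGt L s.im kL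
    convert this using 1
    ext z; simp only [hL, hT, mem_inter_iff, mem_ofPred_eq]; tauto
  have kTR : K (T ∩ R) := by
    have := hK.reGt T s.re kT
    convert this using 1
    ext z; simp only [hR, hT, mem_inter_iff, mem_ofPred_eq]; tauto
  have kLB : K (L ∩ B) := by
    have := hK.imLt L s.im kL
    convert this using 1
    ext z; simp only [hL, hB, mem_inter_iff, mem_ofPred_eq]; tauto
  have kRB : K (R ∩ B) := by
    have := hK.imLt R s.im kR
    convert this using 1
    ext z; simp only [hR, hB, mem_inter_iff, mem_ofPred_eq]; tauto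
  have oL := hK.isOpen _ kL
  have oR := hK.isOpen _ kR
  have oB := hK.isOpen _ kB
  have oT := hK.isOpen _ kT
  -- L ∪ T
  have z1 : Z (q + 2) (L ∪ T) := hZ.mv (q + 1) L T oL oT dL dT (hZ.base _ _ (by omega) kL dL)
    (hZ.base _ _ (by omega) kT dT) (hZ.base _ _ (by omega) kLT (dL.mono_left inter_subset_left))
  have z2 : Z (q + 2) ((L ∪ T) ∪ R) := by
    refine hZ.mv (q + 1) (L ∪ T) R (oL.union oT) oR (dL.union_left dT) dR z1
      (hZ.base _ _ (by omega) kR dR) ?_
    have : (L ∪ T) ∩ R = T ∩ R := by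
      ext z
      simp only [hL, hT, hR, mem_inter_iff, mem_union, mem_ofPred_eq]
      constructor
      · rintro ⟨⟨h1, h2⟩ | ⟨h1, h2⟩, h3, h4⟩
        · exact absurd h2 (not_lt.2 h4.le)
        · exact ⟨⟨h1, h2⟩, h3, h4⟩
      · rintro ⟨⟨h1, h2⟩, h3, h4⟩
        exact ⟨Or.inr ⟨h1, h2⟩, h3, h4⟩
    rw [this]
    exact hZ.base _ _ (by omega) kTR (dT.mono_left inter_subset_left)
  have z3 : Z (q + 1) ((L ∩ B) ∪ (R ∩ B)) := by
    refine hZ.mv q _ _ (oL.inter oB) (oR.inter oB) (dL.mono_left inter_subset_left)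
      (dR.mono_left inter_subset_left) (hZ.base _ _ (by omega) kLB (dL.mono_left inter_subset_left))
      (hZ.base _ _ (by omega) kRB (dR.mono_left inter_subset_left)) ?_
    have : (L ∩ B) ∩ (R ∩ B) = ∅ := by
      ext z
      simp only [hL, hB, hR, mem_inter_iff, mem_ofPred_eq, mem_empty_iff_false, iff_false]
      rintro ⟨⟨⟨-, h1⟩, -⟩, ⟨-, h2⟩, -⟩
      exact lt_asymm h1 h2
    rw [this]
    exact hZ.empty q
  have z4 : Z (q + 2) (((L ∪ T) ∪ R) ∪ B) := by
    refine hZ.mv (q + 1) _ B ((oL.union oT).union oR) oB ((dL.union_left dT).union_left dR) dB z2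
      (hZ.base _ _ (by omega) kB dB) ?_
    have : ((L ∪ T) ∪ R) ∩ B = (L ∩ B) ∪ (R ∩ B) := by
      ext z
      simp only [hL, hT, hR, hB, mem_inter_iff, mem_union, mem_ofPred_eq]
      constructor
      · rintro ⟨(h | ⟨-, h⟩) | h, h'⟩
        · exact Or.inl ⟨h, h'⟩
        · exact absurd h (not_lt.2 h'.2.le)
        · exact Or.inr ⟨h, h'⟩
      · rintro (⟨h, h'⟩ | ⟨h, h'⟩)
        · exact ⟨Or.inl (Or.inl h), h'⟩
        · exact ⟨Or.inr h, h'⟩
    rw [this]
    exact z3
  have : D \ S = ((L ∪ T) ∪ R) ∪ B := by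
    ext z
    constructor
    · rintro ⟨h1, h2⟩
      have hne : z ≠ s := by
        rintro rfl
        have : z ∈ D ∩ S := by rw [hs]; rfl
        exact h2 this.2
      rcases lt_trichotomy z.re s.re with h | h | h
      · exact Or.inl (Or.inl (Or.inl ⟨h1, h⟩))
      · rcases lt_trichotomy z.im s.im with h' | h' | h'
        · exact Or.inr ⟨h1, h'⟩
        · exact absurd (Complex.ext h h') hne
        · exact Or.inl (Or.inl (Or.inr ⟨h1, h'⟩))
      · exact Or.inl (Or.inr ⟨h1, h⟩)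
    · rintro (((h | h) | h) | h)
      · exact ⟨h.1, Set.disjoint_left.1 dL h⟩
      · exact ⟨h.1, Set.disjoint_left.1 dT h⟩
      · exact ⟨h.1, Set.disjoint_left.1 dR h⟩
      · exact ⟨h.1, Set.disjoint_left.1 dB h⟩
  rw [this]
  exact z4

/-- **Punctured planes**. -/
theorem main (hS : S.Finite) (hK : Cls K) (hZ : Van K S Z) (q : ℕ) (hq : 2 ≤ q) (D : Set ℂ)
    (hD : K D) : Z q (D \ S) := by
  have key : ∀ (n : ℕ) (D : Set ℂ), K D → (D ∩ S).ncard ≤ n → ∀ q, 2 ≤ q → Z q (D \ S) := by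
    intro n
    induction n with
    | zero =>
      intro D hD hn q hq
      have h0 : D ∩ S = ∅ := (Set.ncard_eq_zero (hS.subset inter_subset_right)).1 (by omega)
      have hd : Disjoint D S := Set.disjoint_iff_inter_eq_empty.2 h0
      rw [hd.sdiff_eq_left]
      exact hZ.base q D (by omega) hD hd
    | succ n ih =>
      intro D hD hn q hq
      by_cases h1 : (D ∩ S).ncard ≤ n
      · exact ih D hD h1 q hq
      by_cases h2 : (D ∩ S).ncard = 1
      · obtain ⟨s, hs⟩ := Set.ncard_eq_one.1 h2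
        exact one hK hZ q hq D hD s hs
      obtain ⟨q, rfl⟩ : ∃ r, q = r + 2 := ⟨q - 2, by omega⟩
      have hfin : (D ∩ S).Finite := hS.subset inter_subset_right
      obtain ⟨s, hs, s', hs', hne⟩ := (Set.one_lt_ncard hfin).1 (by omega : 1 < (D ∩ S).ncard)
      -- a coordinate separating `s` and `s'`
      have aux : ∀ (f : ℂ → ℝ) (_ : Continuous f)
          (_ : ∀ D (c : ℝ), K D → K (D ∩ {z | f z < c})) (_ : ∀ D (c : ℝ), K D → K (D ∩ {z | c < f z}))
          (a b : ℂ) (_ : a ∈ D ∩ S) (_ : b ∈ D ∩ S) (_ : f a < f b), Z (q + 2) (D \ S) := by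
        intro f hfc hlt hgt a b ha hb hab
        obtain ⟨c, c', hc, hcc, hc', hgap⟩ := exists_gap (hS.image f) hab
        have k1 : K (D ∩ {z | f z < c'}) := hlt D c' hD
        have k2 : K (D ∩ {z | c < f z}) := hgt D c hD
        have k12 : K ((D ∩ {z | f z < c'}) ∩ {z | c < f z}) := hgt _ c k1
        have n1 : ((D ∩ {z | f z < c'}) ∩ S).ncard ≤ n := by
          have : ((D ∩ {z | f z < c'}) ∩ S).ncard < (D ∩ S).ncard := by
            refine Set.ncard_lt_ncard ⟨?_, fun h => ?_⟩ hfin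
            · rintro z ⟨⟨h1, -⟩, h2⟩; exact ⟨h1, h2⟩
            · exact absurd (h hb).1.2 (not_lt.2 hc'.le)
          omega
        have n2 : ((D ∩ {z | c < f z}) ∩ S).ncard ≤ n := by
          have : ((D ∩ {z | c < f z}) ∩ S).ncard < (D ∩ S).ncard := by
            refine Set.ncard_lt_ncard ⟨?_, fun h => ?_⟩ hfin
            · rintro z ⟨⟨h1, -⟩, h2⟩; exact ⟨h1, h2⟩
            · exact absurd (h ha).1.2 (not_lt.2 hc.le)
          omega
        have e : D \ S = ((D ∩ {z | f z < c'}) \ S) ∪ ((D ∩ {z | c < f z}) \ S) := by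
          ext z
          simp only [mem_sdiff, mem_inter_iff, mem_union, mem_ofPred_eq]
          constructor
          · rintro ⟨h1, h2⟩
            by_cases h3 : f z < c'
            · exact Or.inl ⟨⟨h1, h3⟩, h2⟩
            · exact Or.inr ⟨⟨h1, by linarith⟩, h2⟩
          · rintro (⟨⟨h1, -⟩, h2⟩ | ⟨⟨h1, -⟩, h2⟩)
            · exact ⟨h1, h2⟩
            · exact ⟨h1, h2⟩
        rw [e]
        have hSo : IsOpen Sᶜ := hS.isClosed.isOpen_compl
        refine hZ.mv (q + 1) _ _ ((hK.isOpen _ k1).inter hSo) ((hK.isOpen _ k2).inter hSo)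
          disjoint_sdiff_left disjoint_sdiff_left (ih _ k1 n1 _ (by omega))
          (ih _ k2 n2 _ (by omega)) ?_
        have e2 : ((D ∩ {z | f z < c'}) \ S) ∩ ((D ∩ {z | c < f z}) \ S) =
            (D ∩ {z | f z < c'}) ∩ {z | c < f z} := by
          ext z
          simp only [mem_sdiff, mem_inter_iff, mem_ofPred_eq]
          constructor
          · rintro ⟨⟨⟨h1, h2⟩, -⟩, ⟨-, h4⟩, -⟩
            exact ⟨⟨h1, h2⟩, h4⟩
          · rintro ⟨⟨h1, h2⟩, h4⟩
            have h5 : z ∉ S := fun h => hgap (f z) ⟨z, h, rfl⟩ ⟨h4, h2⟩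
            exact ⟨⟨⟨h1, h2⟩, h5⟩, ⟨h1, h4⟩, h5⟩
        rw [e2]
        refine hZ.base (q + 1) _ (by omega) k12 (Set.disjoint_left.2 ?_)
        rintro z ⟨⟨-, h2⟩, h4⟩ h
        exact hgap (f z) ⟨z, h, rfl⟩ ⟨h4, h2⟩
      by_cases hre : s.re = s'.re
      · have him : s.im ≠ s'.im := fun h => hne (Complex.ext hre h)
        rcases lt_or_gt_of_ne him with h | h
        · exact aux Complex.im Complex.continuous_im hK.imLt hK.imGt s s' hs hs' h
        · exact aux Complex.im Complex.continuous_im hK.imLt hK.imGt s' s hs' hs h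
      · rcases lt_or_gt_of_ne hre with h | h
        · exact aux Complex.re Complex.continuous_re hK.reLt hK.reGt s s' hs hs' h
        · exact aux Complex.re Complex.continuous_re hK.reLt hK.reGt s' s hs' hs h
  exact key _ D hD le_rfl q hq

end Groth.Agent.An.H896.Punct
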